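import Groth.Agent.Divisors.EffCartier
import Mathlib

/-!
# Intersection and product of ideal sheaves meeting properly
-/

set_option autoImplicit false

universe u

open CategoryTheory AlgebraicGeometry TopologicalSpace Opposite BlowUp

namespace Groth.DivNorm

open Groth.Divisors

variable {X : Scheme.{u}}

/-- A generator of an effective Cartier ideal on an affine open is regular. -/
theorem mem_nonZeroDivisors_of_span {I : X.IdealSheafData} (hI : IsEffCartierIdeal I)
    (V : X.affineOpens) {a : Γ(X, V.1)} (ha : I.ideal V = Ideal.span {a}) :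
    a ∈ nonZeroDivisors Γ(X, V.1) := by
  refine IsNzdSec.mem_nonZeroDivisors fun x hx => ?_
  obtain ⟨W, hxW, hle, g, hg, hgI⟩ := exists_generator hI x V.1 hx
  set a' := X.presheaf.map (homOfLE hle).op a with ha'
  have hspan : Ideal.span {a'} = Ideal.span {g} := by
    rw [← hgI, ← I.map_ideal (U := W) (V := V) hle, ha, Ideal.map_span, Set.image_singleton]
    rfl
  obtain ⟨w, hw⟩ := Ideal.mem_span_singleton'.1 (hspan ▸ Ideal.mem_span_singleton_self a')
  obtain ⟨w', hw'⟩ := Ideal.mem_span_singleton'.1 (hspan.symm ▸ Ideal.mem_span_singleton_self g)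
  have hone : w' * w = 1 := by
    have h1 : (w' * w - 1) * g = 0 := by rw [sub_mul, one_mul, mul_assoc, hw, hw', sub_self]
    exact sub_eq_zero.1 (mem_nonZeroDivisors_iff_right.1 hg.mem_nonZeroDivisors _ h1)
  rw [← TopCat.Presheaf.germ_res_apply X.presheaf (homOfLE hle) x hxW a, ← ha', ← hw, map_mul]
  exact Submonoid.mul_mem _
    ((IsUnit.of_mul_eq_one_right _ hone).map (X.presheaf.germ W.1 x hxW).hom).mem_nonZeroDivisors
    (hg x hxW)

/-- If the first ideal is invertible and stays so on the closed subscheme of the second, then the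
intersection of the two ideals is their product. -/
theorem inf_le_mul {I J : X.IdealSheafData} (hI : IsEffCartierIdeal I)
    (hJ : IsEffCartierIdeal (I.comap J.subschemeι)) : I ⊓ J ≤ I * J := by
  have : I ⊓ J = I ⊓ J ⊓ I * J := by
    refine ext_of_cover fun x => ?_
    obtain ⟨W, hxW, -, h, -, hW⟩ := exists_generator hI x ⊤ trivial
    refine ⟨W, hxW, ?_⟩
    rw [Scheme.IdealSheafData.ideal_inf, Pi.inf_apply, Scheme.IdealSheafData.ideal_inf,
      Pi.inf_apply, Scheme.IdealSheafData.ideal_mul, Pi.mul_apply, Scheme.IdealSheafData.ideal_inf,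
      Pi.inf_apply]
    refine (inf_eq_left.2 fun a ha => ?_).symm
    obtain ⟨haI, haJ⟩ := Submodule.mem_inf.1 ha
    rw [hW] at haI ⊢
    obtain ⟨b, rfl⟩ := Ideal.mem_span_singleton'.1 haI
    let ι := J.subschemeι
    let V : J.subscheme.affineOpens := ⟨ι ⁻¹ᵁ W.1, W.2.preimage ι⟩
    have hV : (I.comap ι).ideal V = Ideal.span {ι.app W.1 h} := by
      rw [ideal_comap_affine I ι W V le_rfl, hW, Ideal.map_span, Set.image_singleton,
        ← ι.app_eq_appLE]
    have hreg := mem_nonZeroDivisors_of_span hJ V hV
    have hb : b ∈ J.ideal W := by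
      rw [← J.ker_subschemeι_app W, RingHom.mem_ker]
      refine mem_nonZeroDivisors_iff_right.1 hreg _ ?_
      rw [← map_mul]
      rwa [← RingHom.mem_ker, J.ker_subschemeι_app W]
    rw [mul_comm b h]
    exact Ideal.mul_mem_mul (Ideal.mem_span_singleton_self h) hb
  rw [this]
  exact inf_le_right

end Groth.DivNorm
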