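import Groth.Agent.NeronArea.WeilExtensionBase
import Groth.Agent.Ega2Proj.ExtendCodimOne
import Groth.Agent.Abvar.Rigidity
import Groth.Agent.GrpschAbsch.FibreFlat
import Mathlib

/-!
# Rational maps from smooth integral schemes over a field to proper group schemes extend
-/

set_option autoImplicit false
set_option linter.style.haveILetI false

universe u

open CategoryTheory CategoryTheory.Limits AlgebraicGeometry IsLocalRing

set_option maxHeartbeats 1600000
set_option backward.isDefEq.respectTransparency false
set_option backward.defeqAttrib.useBackward true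
set_option backward.isDefEq.respectTransparency.types false

namespace Groth.DivNorm

variable {k : Type u} [Field k]

/-- A morphism from a nonempty open of a smooth integral scheme over a field to a proper group
scheme extends to the whole scheme. -/
theorem exists_extension_group (J A : Over (Spec (CommRingCat.of k))) [Smooth J.hom] [IsIntegral J.left]
    [GrpObj A] [IsProper A.hom] (V : J.left.Opens) (hV : (V : Set J.left).Nonempty)
    (χ₀ : Over.mk (V.ι ≫ J.hom) ⟶ A) :
    ∃ χ : J ⟶ A, (Over.homMk V.ι rfl : Over.mk (V.ι ≫ J.hom) ⟶ J) ≫ χ = χ₀ := by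
  have hX : ∀ y : J.left, IsRegularLocalRing (J.left.presheaf.stalk y) :=
    fun y => Groth.NeronArea.Weil.isRegularLocalRing_of_smooth_dedekind (R := k) J.hom y
  have := Groth.NeronArea.Weil.isLocallyNoetherian_of_smooth J.hom
  have hd : Dense (V : Set J.left) := V.isOpen.dense hV
  have hg : χ₀.left ≫ A.hom = V.ι ≫ J.hom := Over.w χ₀
  obtain ⟨U, hVU, g', hg'1, hg'2, hU⟩ := Groth.Ega2Proj.exists_extension_of_local A.hom J.hom V hd
    χ₀.left hg (fun y => ringKrullDim (J.left.presheaf.stalk y) ≤ 1) fun y hy => by
    have := hX y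
    obtain ⟨_, hvr⟩ := Groth.Ega2Proj.isDomain_and_valuationRing_of_regular _ hy
    refine Groth.Ega2Proj.exists_local_extension A.hom J.hom V hd χ₀.left hg y fun x0 hx0 => ?_
    have : UniversallyClosed (pullback.snd A.hom J.hom) := inferInstance
    obtain ⟨φ, h1, h2⟩ := Groth.Ega2Proj.exists_lift_of_isClosedMap_of_valuationRing
      (pullback.snd A.hom J.hom) (pullback.snd A.hom J.hom).isClosedMap y
      (pullback.lift x0 (Spec.map (CommRingCat.ofHom (algebraMap (J.left.presheaf.stalk y)
        (FractionRing (J.left.presheaf.stalk y)))) ≫ J.left.fromSpecStalk y)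
        (by rw [hx0, Category.assoc])) (pullback.lift_snd _ _ _)
    refine ⟨φ ≫ pullback.fst A.hom J.hom, ?_, ?_⟩
    · rw [Category.assoc, pullback.condition, ← Category.assoc, h1]
    · exact (Category.assoc _ _ _).symm.trans
        ((congrArg (· ≫ pullback.fst A.hom J.hom) h2).trans (pullback.lift_fst _ _ _))
  have hdU : Dense (U : Set J.left) := hd.mono hVU
  letI : GrpObj (Over.mk A.hom) := ‹GrpObj A›
  have hfib : ∀ x : J.left, x ∈ closure ((U : Set J.left) ∩ {y | J.hom y = J.hom x}) := fun x => by
    have : {y | J.hom y = J.hom x} = (Set.univ : Set J.left) :=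
      Set.eq_univ_of_forall fun y => Subsingleton.elim (α := PrimeSpectrum k) _ _
    rw [this, Set.inter_univ]
    exact hdU x
  obtain ⟨g, ⟨h1, h2⟩, -⟩ := Groth.NeronArea.Weil.existsUnique_extension J.hom A.hom hX U g' hg'1
    hfib hU
  refine ⟨Over.homMk g h1, Over.OverMorphism.ext ?_⟩
  show V.ι ≫ g = χ₀.left
  rw [← hg'2, ← h2, Scheme.homOfLE_ι_assoc]

/-- A smooth, geometrically connected scheme over a field is integral. -/
theorem isIntegral_of_smooth (J : Over (Spec (CommRingCat.of k))) [Smooth J.hom]
    [GeometricallyIrreducible J.hom] : IsIntegral J.left := by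
  have : GeometricallyReduced J.hom :=
    Groth.GrpschAbsch.FibreFlat.geometricallyReduced_of_smooth J.hom
  have : GeometricallyIntegral J.hom :=
    GeometricallyIntegral.of_geometricallyReduced_of_geometricallyIrreducible J.hom
  exact Groth.Abvar.isIntegral_left J

end Groth.DivNorm
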