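import Groth.Agent.DivNorm.Norm
import Groth.Agent.DivNorm.Extend
import Groth.Agent.PicField.Cover
import Groth.Agent.PicCurve.PointsSurj
import Groth.Agent.ModelsGraphs.PicDim.HilbDim
import Mathlib

/-!
# The Albanese property of the Jacobian of a pointed curve
-/

set_option autoImplicit false
set_option linter.style.haveILetI false

universe u

open CategoryTheory CategoryTheory.Limits MonoidalCategory CartesianMonoidalCategory MonObj
  AlgebraicGeometry TopologicalSpace Opposite
open Groth.Abvar.PicCalc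
open Groth.HilbPts (pullObj)
open Groth.ModelsGraphs.PicDim (zeroClasses zeroClasses_map degC_map degC_mulT degC_invT degC_powT
  degC_norm degC_dC)

set_option maxHeartbeats 1600000
set_option backward.isDefEq.respectTransparency false
set_option backward.defeqAttrib.useBackward true
set_option backward.isDefEq.respectTransparency.types false

noncomputable section

namespace Groth.DivNorm

open Groth.PicCurve

variable {k : Type u} [Field k] {X : Scheme.{u}} {f : X ⟶ Spec (CommRingCat.of k)}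

section Classes

variable (σ : Spec (CommRingCat.of k) ⟶ X) (hσ : σ ≫ f = 𝟙 (Spec (CommRingCat.of k)))

/-- The base point over a test scheme. -/
def zSec (T : Over (Spec (CommRingCat.of k))) : T ⟶ Over.mk f :=
  Over.homMk (T.hom ≫ σ) (by simp [hσ])

theorem comp_zSec {T T' : Over (Spec (CommRingCat.of k))} (g : T' ⟶ T) :
    g ≫ zSec σ hσ T = zSec σ hσ T' :=
  Over.OverMorphism.ext (by simp [zSec])

variable (hf : IsPtCurve f)

/-- A point as a family of divisors of degree one. -/
def ptD {T : Over (Spec (CommRingCat.of k))} (x : T ⟶ Over.mk f) : HilbD.Obj f 1 T :=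
  ⟨gr x, haveI := hf.proper; haveI := hf.smoothOne
    Groth.HilbPts.isFinLocFreeOfDeg_secGraph f T x.left (Over.w x)⟩

/-- The class of a point. -/
def clsPt {T : Over (Spec (CommRingCat.of k))} (x : T ⟶ Over.mk f) :
    PicLoc.PicSet (PicF.XT f T) :=
  dC hf (ptD hf x)

theorem pull_clsPt {T T' : Over (Spec (CommRingCat.of k))} (g : T' ⟶ T) (x : T ⟶ Over.mk f) :
    pull (PicF.XTmap f g) (clsPt hf x) = clsPt hf (g ≫ x) := by
  have := hf.proper
  have := hf.smoothOne
  exact (pull_dC hf g _).trans (dC_congr hf (pull_gr g x))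

theorem pull_base {T T' : Over (Spec (CommRingCat.of k))} (g : T' ⟶ T) :
    pull (PicF.XTmap f g) (clsPt hf (zSec σ hσ T)) = clsPt hf (zSec σ hσ T') := by
  rw [pull_clsPt, comp_zSec]

/-- A sum of points as a family of divisors. -/
def sumD {d : ℕ} {T : Over (Spec (CommRingCat.of k))} (x : Fin d → (T ⟶ Over.mk f)) :
    HilbD.Obj f d T :=
  ⟨∏ i, gr (x i), haveI := hf.proper; haveI := hf.smoothOne; isFinLocFreeOfDeg_prod x⟩

theorem dC_sumD {d : ℕ} {T : Over (Spec (CommRingCat.of k))} (x : Fin d → (T ⟶ Over.mk f)) :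
    dC hf (sumD hf x) = ∏ i, clsPt hf (x i) := by
  have := hf.proper
  have := hf.smoothOne_proj T
  obtain ⟨h, he⟩ := divCls_prod d (fun i => gr (x i)) fun i =>
    (isEffCartierIdeal_of_finLocFree (PicF.XTproj f T) (ptD hf (x i)).2).1
  exact he

/-- The normalised class of degree zero of a family of divisors. -/
def divPoint {d : ℕ} {T : Over (Spec (CommRingCat.of k))} (W : HilbD.Obj f d T) :
    zeroClasses hf σ hσ T :=
  ⟨(norm f σ hσ T (dC hf W * (clsPt hf (zSec σ hσ T) ^ d)⁻¹)).1,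
    (norm f σ hσ T (dC hf W * (clsPt hf (zSec σ hσ T) ^ d)⁻¹)).2, fun t => by
    rw [degC_norm hf, degC_mulT hf, degC_invT hf, degC_powT hf, clsPt, degC_dC hf, degC_dC hf]
    simp⟩

theorem pull_divPoint {d : ℕ} {T T' : Over (Spec (CommRingCat.of k))} (g : T' ⟶ T)
    (W : HilbD.Obj f d T) :
    pull (PicF.XTmap f g) (divPoint σ hσ hf W).1 = (divPoint σ hσ hf (pullObj g W)).1 := by
  show pull _ (norm f σ hσ T _).1 = _
  rw [show pull (PicF.XTmap f g) (norm f σ hσ T (dC hf W * (clsPt hf (zSec σ hσ T) ^ d)⁻¹)).1 = _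
    from congrArg Subtype.val (norm_map g _), map_mul, map_inv, map_pow, pull_dC hf, pull_base]
  rfl

theorem divPoint_congr {d : ℕ} {T : Over (Spec (CommRingCat.of k))} {W W' : HilbD.Obj f d T}
    (h : W.1 = W'.1) : divPoint σ hσ hf W = divPoint σ hσ hf W' := by
  obtain rfl : W = W' := Subtype.ext h
  rfl

/-- The class `O(x − P)`. -/
def ajPt {T : Over (Spec (CommRingCat.of k))} (x : T ⟶ Over.mk f) : zeroClasses hf σ hσ T :=
  divPoint σ hσ hf (ptD hf x)

/-- Normalisation as a homomorphism. -/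
def normHom (T : Over (Spec (CommRingCat.of k))) :
    PicLoc.PicSet (PicF.XT f T) →* PicLoc.PicSet (PicF.XT f T) :=
  MonoidHom.mk' (fun c => (norm f σ hσ T c).1) fun c d => norm_mul c d

theorem divPoint_sumD {d : ℕ} {T : Over (Spec (CommRingCat.of k))}
    (x : Fin d → (T ⟶ Over.mk f)) :
    divPoint σ hσ hf (sumD hf x) = ∏ i, ajPt σ hσ hf (x i) := by
  apply Subtype.ext
  rw [SubmonoidClass.coe_finsetProd]
  show normHom σ hσ T (dC hf (sumD hf x) * _) = ∏ i, normHom σ hσ T (clsPt hf (x i) * _)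
  rw [← map_prod, Finset.prod_mul_distrib, dC_sumD, Finset.prod_const, Finset.card_univ,
    Fintype.card_fin, pow_one, inv_pow]

theorem ajPt_zero (T : Over (Spec (CommRingCat.of k))) :
    ajPt σ hσ hf (zSec σ hσ T) = 1 := by
  apply Subtype.ext
  show normHom σ hσ T (clsPt hf (zSec σ hσ T) * _) = 1
  rw [pow_one, mul_inv_cancel, map_one]

end Classes

variable {σ : Spec (CommRingCat.of k) ⟶ X} {hσ : σ ≫ f = 𝟙 (Spec (CommRingCat.of k))}
  {hf : IsPtCurve f}
  {J : Over (Spec (CommRingCat.of k))} [GrpObj J] [IsCommMonObj J]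
  (e : ∀ T : Over (Spec (CommRingCat.of k)), (T ⟶ J) ≃ zeroClasses hf σ hσ T)
  (hnat : ∀ (T T' : Over (Spec (CommRingCat.of k))) (g : T' ⟶ T) (h : T ⟶ J),
    (e T' (g ≫ h)).1 = pull (PicF.XTmap f g) (e T h).1)
  (hmul : ∀ (T : Over (Spec (CommRingCat.of k))) (g h : T ⟶ J), e T (g * h) = e T g * e T h)

/-- The Abel map. -/
def abel : Over.mk f ⟶ J :=
  (e _).symm (ajPt σ hσ hf (𝟙 (Over.mk f)))

include hnat in
theorem e_comp_abel {T : Over (Spec (CommRingCat.of k))} (x : T ⟶ Over.mk f) :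
    e T (x ≫ abel e) = ajPt σ hσ hf x := by
  have := hf.proper
  have := hf.smoothOne
  apply Subtype.ext
  rw [hnat, abel, Equiv.apply_symm_apply, ajPt, ajPt, pull_divPoint]
  refine congrArg Subtype.val (divPoint_congr σ hσ hf ?_)
  show HilbD.pull f x (gr (𝟙 _)) = gr x
  rw [pull_gr, Category.comp_id]

include hmul in
theorem e_one (T : Over (Spec (CommRingCat.of k))) : e T 1 = 1 := by
  have h := hmul T 1 1
  rw [_root_.mul_one] at h
  exact left_eq_mul.1 h

include hnat hmul in
/-- The map given by the universal divisor is the norm of the Abel map. -/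
theorem isNorm_divPoint {d : ℕ} {H : Over (Spec (CommRingCat.of k))} (Z : HilbD.Obj f d H) :
    IsNorm (abel e) Z ((e H).symm (divPoint σ hσ hf Z)) := by
  intro T g x hg
  apply (e T).injective
  rw [show e T (∏ i, x i ≫ abel e) = ∏ i, e T (x i ≫ abel e) from
    map_prod (MonoidHom.mk' (fun z : T ⟶ J => e T z) fun a b => hmul T a b) _ Finset.univ]
  simp only [e_comp_abel e hnat]
  rw [← divPoint_sumD]
  apply Subtype.ext
  rw [hnat, Equiv.apply_symm_apply, pull_divPoint]
  exact congrArg Subtype.val (divPoint_congr σ hσ hf (W' := sumD hf x) hg)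

include hnat in
theorem exists_good_point :
    ∃ v : J.left, GoodC (PicF.XTproj f J)
      ((e J (𝟙 J)).1 * clsPt hf (zSec σ hσ J) ^ genus f) v := by
  let T₀ : Over (Spec (CommRingCat.of k)) := Over.mk (𝟙 _)
  let a : (Groth.PicField.zP hf σ hσ).obj (op T₀) := (1 : zeroClasses hf σ hσ T₀)
  obtain ⟨i, v, -⟩ := Groth.PicField.exists_twist_at (SeparableClosure k) hf a
    (IsLocalRing.closedPoint k)
  let E := Groth.PicField.stageObj i.s
  let w : E.left := (Groth.PicField.prE T₀ E).left v.1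
  have hw : GoodC (PicF.XTproj f E) i.N w := by
    refine (goodC_map_iff hf (Groth.PicField.prE T₀ E) i.N v.1).1 ?_
    have h : GoodC _ (Groth.PicField.twCls hf i.N a) v.1 := v.2
    have e1 : Groth.PicField.twCls hf i.N a =
        pull (PicF.XTmap f (Groth.PicField.prE T₀ E)) i.N := by
      show pull (PicF.XTmap f (Groth.PicField.prT T₀ E)) 1 * _ = _
      rw [map_one, _root_.one_mul]
    exact (congrArg (fun c => GoodC (PicF.XTproj f (Groth.PicField.prodE T₀ E)) c v.1) e1).mp h
  let z : zeroClasses hf σ hσ E :=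
    ⟨(norm f σ hσ E (i.N * (clsPt hf (zSec σ hσ E) ^ genus f)⁻¹)).1,
      (norm f σ hσ E (i.N * (clsPt hf (zSec σ hσ E) ^ genus f)⁻¹)).2, fun t => by
      rw [degC_norm hf, degC_mulT hf, degC_invT hf, degC_powT hf, clsPt, degC_dC hf, i.deg]
      simp⟩
  let b := (e E).symm z
  refine ⟨b.left w, (goodC_map_iff hf b _ w).1 ?_⟩
  rw [map_mul, map_pow, pull_base, ← hnat, Category.comp_id, Equiv.apply_symm_apply]
  show GoodC _ ((norm f σ hσ E _).1 * _) w
  rw [goodC_norm hf, inv_mul_cancel_right]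
  exact hw

variable [IsProper J.hom] [Smooth J.hom] [GeometricallyIrreducible J.hom]

include hnat hmul in
/-- The Albanese property of the Jacobian. -/
theorem existsUnique_hom_of_pointed (hg : 0 < genus f) {A : Over (Spec (CommRingCat.of k))}
    [GrpObj A] [IsCommMonObj A] [IsProper A.hom] (φ : Over.mk f ⟶ A)
    (hφ : zSec σ hσ (𝟙_ (Over (Spec (CommRingCat.of k)))) ≫ φ = η[A]) :
    ∃! χ : J ⟶ A, IsMonHom χ ∧ abel e ≫ χ = φ := by
  have := hf.proper
  have := hf.smooth
  have := hf.smoothOne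
  have := hf.geomConn
  have hφ' : ∀ T, zSec σ hσ T ≫ φ = 1 := fun T => by
    rw [← comp_zSec σ hσ (toUnit T), Category.assoc, hφ, Hom.one_def]
  obtain ⟨H, Z, hZ, hHp, hHc⟩ :=
    Groth.ModelsGraphs.PicDim.exists_proper_smooth_connected k X f hf.curve (genus f)
  have hrep : ∀ d, HilbD.Representable f d := fun d => by
    obtain ⟨H', Z', h', -⟩ := Groth.CurveDiv.exists_proper_smooth k X f hf.curve d
    exact ⟨H', Z', h'⟩
  have := Groth.CurveDiv.smooth_of_isUniversal f hrep (genus f) H Z hZ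
  let T₀ : Over (Spec (CommRingCat.of k)) := 𝟙_ _
  obtain ⟨h₀, hh₀, -⟩ := hZ T₀ (sumD hf fun _ => zSec σ hσ T₀)
  have : GeometricallyConnected H.hom :=
    Groth.AlgGrp1.geometricallyConnected_of_point H.hom h₀.left (Over.w h₀)
  have : GeometricallyReduced H.hom :=
    Groth.GrpschAbsch.FibreFlat.geometricallyReduced_of_smooth H.hom
  have : GeometricallyIrreducible H.hom :=
    Groth.SmoothWeil.geometricallyIrreducible_of_connected H.hom
  have := isIntegral_of_smooth H
  have := isIntegral_of_smooth J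
  have : GeometricallyReduced J.hom :=
    Groth.GrpschAbsch.FibreFlat.geometricallyReduced_of_smooth J.hom
  have : GeometricallyIntegral J.hom :=
    GeometricallyIntegral.of_geometricallyReduced_of_geometricallyIrreducible J.hom
  obtain ⟨ψ, hψ⟩ := exists_norm φ hrep (genus f) H Z hZ
  let q : H ⟶ J := (e H).symm (divPoint σ hσ hf Z)
  have hq : IsNorm (abel e) Z q := isNorm_divPoint e hnat hmul Z
  have heq : ∀ {T : Over (Spec (CommRingCat.of k))} (a : T ⟶ H),
      (e T (a ≫ q)).1 = (divPoint σ hσ hf (pullObj a Z)).1 := fun a => by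
    rw [hnat, Equiv.apply_symm_apply, pull_divPoint]
  -- the map is injective on good divisors
  have hinj : ∀ {T : Over (Spec (CommRingCat.of k))} (a b : T ⟶ H),
      (∀ t, GoodC (PicF.XTproj f T) (dC hf (pullObj a Z)) t) → a ≫ q = b ≫ q → a = b := by
    intro T a b hgood hab
    refine Groth.HilbPts.eq_of_pull_eq hZ _ _ ?_
    refine eq_of_norm_eq (σ := σ) (hσ := hσ) hf (W := pullObj a Z) (W' := pullObj b Z) hgood
      (Subtype.ext ?_)
    have h : (divPoint σ hσ hf (pullObj a Z)).1 = (divPoint σ hσ hf (pullObj b Z)).1 := by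
      rw [← heq, ← heq, hab]
    change normHom σ hσ T (_ * _) = normHom σ hσ T (_ * _) at h
    rw [map_mul, map_mul] at h
    exact mul_right_cancel h
  -- the good loci
  let cJ := (e J (𝟙 J)).1 * clsPt hf (zSec σ hσ J) ^ genus f
  let V : J.left.Opens := goodOpens f hf cJ
  obtain ⟨v, hv⟩ := exists_good_point e hnat
  let jV : Over.mk (V.ι ≫ J.hom) ⟶ J := Over.homMk V.ι rfl
  let cV := pull (PicF.XTmap f jV) cJ
  have hcV : ∀ z, GoodC (PicF.XTproj f _) cV z := fun z => (goodC_map_iff hf jV cJ z).2 z.2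
  obtain ⟨W, hW⟩ := exists_divisor (σ := σ) (hσ := hσ) hf cV hcV
  obtain ⟨s, hs, -⟩ := hZ _ W
  have hWg : ∀ z, GoodC (PicF.XTproj f _) (dC hf W) z := fun z => by
    rw [← _root_.mul_one (dC hf W), ← goodC_norm (σ := σ) (hσ := hσ) hf, hW, goodC_norm hf, _root_.mul_one]
    exact hcV z
  have hsq : s ≫ q = jV := by
    apply (e _).injective
    apply Subtype.ext
    rw [heq, divPoint_congr σ hσ hf (W' := W) hs]
    show normHom σ hσ _ (dC hf W * _) = _
    rw [map_mul, show normHom σ hσ _ (dC hf W) = normHom σ hσ _ cV from congrArg Subtype.val hW,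
      ← map_mul, show cV = _ * _ from map_mul _ _ _, map_pow, pull_base, mul_inv_cancel_right,
      ← hnat, Category.comp_id]
    exact congrArg Subtype.val (norm_self (⟨(e _ jV).1, (e _ jV).2.1⟩ : RS f σ hσ _))
  let U : H.left.Opens := goodOpens f hf (dC hf Z)
  let jU : Over.mk (U.ι ≫ H.hom) ⟶ H := Over.homMk U.ι rfl
  have hU : (U : Set H.left).Nonempty := by
    refine ⟨s.left ⟨v, hv⟩, ?_⟩
    show GoodC _ _ (s.left ⟨v, hv⟩)
    rw [← goodC_map_iff hf s, pull_dC hf, dC_congr hf (W' := W) hs]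
    exact hWg _
  -- the extension
  obtain ⟨χ, hχ⟩ := exists_extension_group J A V ⟨v, hv⟩ (s ≫ ψ)
  have hgoodU : ∀ z, GoodC (PicF.XTproj f _) (dC hf (pullObj jU Z)) z := fun z => by
    rw [← pull_dC hf, goodC_map_iff hf]
    exact z.2
  have hr : Set.range (jU ≫ q).left ⊆ Set.range V.ι := by
    rintro _ ⟨z, rfl⟩
    rw [Scheme.Opens.range_ι]
    show GoodC _ cJ ((jU ≫ q).left z)
    rw [← goodC_map_iff hf (jU ≫ q), map_mul, map_pow, pull_base, ← hnat, Category.comp_id, heq]
    show GoodC _ ((norm f σ hσ _ _).1 * _) z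
    rw [goodC_norm hf, inv_mul_cancel_right]
    exact hgoodU z
  let l : Over.mk (U.ι ≫ H.hom) ⟶ Over.mk (V.ι ≫ J.hom) :=
    Over.homMk (IsOpenImmersion.lift V.ι (jU ≫ q).left hr) (by
      show _ ≫ V.ι ≫ J.hom = _
      rw [IsOpenImmersion.lift_fac_assoc, Over.w (jU ≫ q)])
  have hl : l ≫ jV = jU ≫ q := Over.OverMorphism.ext (IsOpenImmersion.lift_fac _ _ _)
  have hls : jU = l ≫ s := hinj _ _ hgoodU (by rw [Category.assoc, hsq, hl])
  have hqχ : q ≫ χ = ψ := by
    have hdom : IsDominant U.ι :=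
      ⟨by rw [DenseRange, Scheme.Opens.range_ι]; exact U.isOpen.dense hU⟩
    apply Over.OverMorphism.ext
    refine ext_of_isDominant_of_isSeparated A.hom ((Over.w (q ≫ χ)).trans (Over.w ψ).symm) U.ι ?_
    have h1 : jU ≫ q ≫ χ = jU ≫ ψ := by
      rw [← Category.assoc, ← hl, Category.assoc, hχ, ← Category.assoc, ← hls]
    exact congrArg (fun z : Over.mk (U.ι ≫ H.hom) ⟶ A => z.left) h1
  -- the origin
  have h₀q : h₀ ≫ q = 1 := by
    rw [hq T₀ h₀ _ hh₀]
    refine Finset.prod_eq_one fun i _ => (e T₀).injective ?_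
    rw [e_comp_abel e hnat, ajPt_zero, e_one e hmul]
  have hη : η[J] ≫ χ = η[A] := by
    have h1 : h₀ ≫ ψ = 1 := by
      rw [hψ T₀ h₀ _ hh₀]
      exact Finset.prod_eq_one fun i _ => hφ' T₀
    rw [← hqχ, ← Category.assoc, h₀q] at h1
    simpa [Hom.one_def, T₀, toUnit_unique (toUnit (𝟙_ _)) (𝟙 _)] using h1
  have : IsMonHom χ := Groth.Abvar.isMonHom_of_one χ hη
  refine ⟨χ, ⟨this, ?_⟩, fun χ' hχ' => ?_⟩
  · obtain ⟨n, hn⟩ := Nat.exists_eq_succ_of_ne_zero hg.ne'
    let C : Over (Spec (CommRingCat.of k)) := Over.mk f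
    let x : Fin (genus f) → (C ⟶ C) := fun i => if i.1 = 0 then 𝟙 C else zSec σ hσ C
    obtain ⟨c, hc, -⟩ := hZ C (sumD hf x)
    have h1 := hψ C c x hc
    rw [← hqχ, ← Category.assoc, hq C c x hc] at h1
    have hz : ∀ (B : Over (Spec (CommRingCat.of k))) [GrpObj B] [IsCommMonObj B] (φ' : C ⟶ B),
        zSec σ hσ C ≫ φ' = 1 → ∏ i, x i ≫ φ' = φ' := by
      intro B _ _ φ' h'
      rw [Finset.prod_eq_single (⟨0, hg⟩ : Fin (genus f)) (fun i _ hi => ?_)
        (fun h => absurd (Finset.mem_univ _) h)]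
      · simp [x]
      · simp only [x, if_neg (fun h => hi (Fin.ext h)), h']
    rw [hz J (abel e) ((e C).injective (by rw [e_comp_abel e hnat, ajPt_zero, e_one e hmul])),
      hz A φ (hφ' C)] at h1
    exact h1
  · obtain ⟨hmon, hjχ⟩ := hχ'
    have hn : IsNorm φ Z (q ≫ χ') := fun T a x ha => by
      rw [← Category.assoc, hq T a x ha, ← hjχ]
      refine (map_prod (MonoidHom.mk' (fun z : T ⟶ J => z ≫ χ') fun z w => MonObj.mul_comp z w χ')
        _ Finset.univ).trans ?_
      simp only [MonoidHom.mk'_apply, Category.assoc]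
    have h2 : q ≫ χ' = ψ := hn.unique hψ
    have hdom : IsDominant V.ι :=
      ⟨by rw [DenseRange, Scheme.Opens.range_ι]; exact V.isOpen.dense ⟨v, hv⟩⟩
    apply Over.OverMorphism.ext
    refine ext_of_isDominant_of_isSeparated A.hom ((Over.w χ').trans (Over.w χ).symm) V.ι ?_
    have h3 : jV ≫ χ' = jV ≫ χ := by rw [← hsq, Category.assoc, Category.assoc, h2, hqχ]
    exact congrArg (fun z : Over.mk (V.ι ≫ J.hom) ⟶ A => z.left) h3

end Groth.DivNorm
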