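import Groth.Agent.DivNorm.InfMul
import Groth.Agent.CurveDiv.HilbSmooth
import Groth.Agent.CurveDiv.Split
import Groth.Agent.S15990
import Mathlib

/-!
# The norm of a map from a smooth curve to a commutative group along families of divisors

For a map `φ` from a smooth curve over `S` to a separated commutative group scheme `A` there is for
every `d` a unique map from the scheme of divisors of degree `d` to `A` whose value at a sum of
sections is the product of the values of `φ` at the sections.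
-/

set_option autoImplicit false
set_option linter.style.haveILetI false

universe u

open CategoryTheory CategoryTheory.Limits MonoidalCategory CartesianMonoidalCategory MonObj
  AlgebraicGeometry

set_option maxHeartbeats 1600000
set_option backward.isDefEq.respectTransparency false
set_option backward.defeqAttrib.useBackward true
set_option backward.isDefEq.respectTransparency.types false

noncomputable section

namespace Groth.DivNorm

open Groth.HilbPts Groth.CurveDiv

variable {X S : Scheme.{u}} {f : X ⟶ S}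

/-- The graph of a point of the curve. -/
abbrev gr {T : Over S} (x : T ⟶ Over.mk f) : (PicF.XT f T).IdealSheafData :=
  HilbD.secGraph f T x.left (Over.w x)

theorem pull_gr [IsSeparated f] {T T' : Over S} (g : T' ⟶ T) (x : T ⟶ Over.mk f) :
    HilbD.pull f g (gr x) = gr (g ≫ x) :=
  pull_secGraph f g x.left (Over.w x)

theorem pull_prod [IsSeparated f] [SmoothOfRelativeDimension 1 f] {T T' : Over S} (g : T' ⟶ T)
    {κ : Type*} (s : Finset κ) (x : κ → (T ⟶ Over.mk f)) :
    HilbD.pull f g (∏ i ∈ s, gr (x i)) = ∏ i ∈ s, gr (g ≫ x i) := by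
  classical
  induction s using Finset.induction with
  | empty =>
    rw [Finset.prod_empty, Finset.prod_empty, Scheme.IdealSheafData.one_eq_top,
      Scheme.IdealSheafData.one_eq_top]
    exact eq_top_of_deg_zero _ (pullObj g ⟨⊤, top_isFinLocFreeOfDeg_zero _⟩).2
  | insert a s has ih => rw [Finset.prod_insert has, Finset.prod_insert has, pull_mul, ih, pull_gr]

variable [IsSeparated f] [SmoothOfRelativeDimension 1 f]

theorem isFinLocFreeOfDeg_prod {T : Over S} : ∀ {d : ℕ} (x : Fin d → (T ⟶ Over.mk f)),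
    Mor2.IsFinLocFreeOfDeg d ((∏ i, gr (x i)).subschemeι ≫ PicF.XTproj f T)
  | 0, x => by
    rw [Finset.univ_eq_empty, Finset.prod_empty, Scheme.IdealSheafData.one_eq_top]
    exact top_isFinLocFreeOfDeg_zero _
  | d + 1, x => by
    rw [Fin.prod_univ_succ, mul_comm]
    exact isFinLocFreeOfDeg_mul (PicF.XTproj f T) (isFinLocFreeOfDeg_prod _)
      (isFinLocFreeOfDeg_secGraph f T (x 0).left (Over.w (x 0)))

variable {A : Over S} [GrpObj A] [IsCommMonObj A]

/-- The value of `ψ` at a sum of sections is the product of the values of `φ`. -/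
def IsNorm (φ : Over.mk f ⟶ A) {d : ℕ} {H : Over S} (Z : HilbD.Obj f d H) (ψ : H ⟶ A) : Prop :=
  ∀ (T : Over S) (g : T ⟶ H) (x : Fin d → (T ⟶ Over.mk f)),
    HilbD.pull f g Z.1 = ∏ i, gr (x i) → g ≫ ψ = ∏ i, (x i ≫ φ)

/-- A map determined after an fppf cover. -/
theorem epi_of_cover {T T' : Over S} (g : T' ⟶ T) [Flat g.left] [Surjective g.left]
    [LocallyOfFinitePresentation g.left] {a b : T ⟶ A} (h : g ≫ a = g ≫ b) : a = b :=
  Over.OverMorphism.ext ((cancel_epi g.left).1 (congrArg (fun z : T' ⟶ A => z.left) h))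

/-- There is at most one norm. -/
theorem IsNorm.unique {φ : Over.mk f ⟶ A} {d : ℕ} {H : Over S} {Z : HilbD.Obj f d H}
    {ψ ψ' : H ⟶ A} (h : IsNorm φ Z ψ) (h' : IsNorm φ Z ψ') : ψ = ψ' := by
  obtain ⟨T, g, h1, h2, h3, x, hx, he⟩ := exists_split f d H Z
  let xs : Fin d → (T ⟶ Over.mk f) := fun i => Over.homMk (x i) (hx i)
  exact epi_of_cover g ((h T g xs he).trans (h' T g xs he).symm)

theorem comp_prod {T T' : Over S} (g : T' ⟶ T) {d : ℕ} (a : Fin d → (T ⟶ A)) :
    g ≫ ∏ i, a i = ∏ i, (g ≫ a i) :=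
  map_prod (MonoidHom.mk' (fun z : T ⟶ A => g ≫ z) fun z w => MonObj.comp_mul g z w) a Finset.univ

/-- Two maps on a closed subscheme that agree on two closed subschemes meeting properly with union
it agree. -/
theorem eq_of_inf_le {Y W : Scheme.{u}} (i : W ⟶ Y) [IsClosedImmersion i] {B : Scheme.{u}}
    {s : B ⟶ S} [IsSeparated s] {g₁ g₂ : W ⟶ B} (hg : g₁ ≫ s = g₂ ≫ s)
    {I J : Y.IdealSheafData} (hIJ : I ⊓ J ≤ i.ker)
    (hI : ∀ {U : Scheme.{u}} (u : U ⟶ W), I ≤ (u ≫ i).ker → u ≫ g₁ = u ≫ g₂)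
    (hI' : i.ker ≤ I) (hJ : ∀ {U : Scheme.{u}} (u : U ⟶ W), J ≤ (u ≫ i).ker → u ≫ g₁ = u ≫ g₂)
    (hJ' : i.ker ≤ J) : g₁ = g₂ := by
  let δ : W ⟶ pullback s s := pullback.lift g₁ g₂ hg
  let e := pullback.fst δ (pullback.diagonal s)
  have hfac : ∀ {U : Scheme.{u}} (u : U ⟶ W), u ≫ g₁ = u ≫ g₂ → (e ≫ i).ker ≤ (u ≫ i).ker := by
    intro U u h
    let l : U ⟶ pullback δ (pullback.diagonal s) := pullback.lift u (u ≫ g₁) (by
      apply pullback.hom_ext
      · simp [δ]
      · simp [δ, h])
    rw [show u ≫ i = l ≫ e ≫ i by rw [pullback.lift_fst_assoc]]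
    exact Scheme.Hom.le_ker_comp _ _
  have key : ∀ {K : Y.IdealSheafData}, i.ker ≤ K →
      (∀ {U : Scheme.{u}} (u : U ⟶ W), K ≤ (u ≫ i).ker → u ≫ g₁ = u ≫ g₂) →
      (e ≫ i).ker ≤ K := by
    intro K hK h
    let u := IsClosedImmersion.lift i K.subschemeι (by rw [Scheme.IdealSheafData.ker_subschemeι]; exact hK)
    have hu : u ≫ i = K.subschemeι := IsClosedImmersion.lift_fac _ _ _
    have := hfac u (h u (by rw [hu, Scheme.IdealSheafData.ker_subschemeι]))
    rwa [hu, Scheme.IdealSheafData.ker_subschemeι] at this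
  let r := IsClosedImmersion.lift (e ≫ i) i ((le_inf (key hI' hI) (key hJ' hJ)).trans hIJ)
  have hr : r ≫ e = 𝟙 W := by
    rw [← cancel_mono i, Category.assoc, Category.id_comp]
    exact IsClosedImmersion.lift_fac _ _ _
  have hc := pullback.condition (f := δ) (g := pullback.diagonal s)
  have h1 : e ≫ g₁ = pullback.snd δ (pullback.diagonal s) := by
    have := congrArg (· ≫ pullback.fst s s) hc
    simpa [δ, e] using this
  have h2 : e ≫ g₂ = pullback.snd δ (pullback.diagonal s) := by
    have := congrArg (· ≫ pullback.snd s s) hc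
    simpa [δ, e] using this
  rw [← Category.id_comp g₁, ← Category.id_comp g₂, ← hr, Category.assoc, Category.assoc, h1, h2]

/-- The graph of a section meets a family pulled back from a product properly. -/
theorem isEffCartierIdeal_comap_graph {d : ℕ} {H : Over S} (Z : HilbD.Obj f d H) :
    let T : Over S := Over.mk (pullback.fst H.hom f ≫ H.hom)
    let p : T ⟶ H := Over.homMk (pullback.fst H.hom f) rfl
    let x : T ⟶ Over.mk f := Over.homMk (pullback.snd H.hom f) pullback.condition.symm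
    BlowUp.IsEffCartierIdeal ((gr x).comap (HilbD.pull f p Z.1).subschemeι) := by
  intro T p x
  let J := HilbD.pull f p Z.1
  let iw := J.subschemeι
  let q₀ := Z.1.subschemeι
  have hle : Z.1 ≤ (iw ≫ PicF.XTmap f p).ker := by
    rw [← pull_le_ker, Scheme.IdealSheafData.ker_subschemeι]
  obtain ⟨a, ha⟩ := (le_ker_iff _ _).1 hle
  -- the projection to the family is a base change of the curve
  have sq : IsPullback a (iw ≫ PicF.XTproj f T) (q₀ ≫ PicF.XTproj f H) p.left := by
    refine IsPullback.paste_vert (v₁₂ := q₀) (h₂₁ := PicF.XTmap f p) (v₁₁ := iw) ?_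
      (isPullback_XTmap f p)
    refine ⟨⟨ha⟩, ⟨PullbackCone.IsLimit.mk _
      (fun c => IsClosedImmersion.lift iw c.snd ?_) (fun c => ?_) (fun c => ?_)
      (fun c m _ hm => ?_)⟩⟩
    · show J.subschemeι.ker ≤ _
      rw [Scheme.IdealSheafData.ker_subschemeι, pull_le_ker, le_ker_iff]
      exact ⟨c.fst, c.condition⟩
    · rw [← cancel_mono q₀, Category.assoc, ha, IsClosedImmersion.lift_fac_assoc]
      exact c.condition.symm
    · exact IsClosedImmersion.lift_fac _ _ _
    · rw [← cancel_mono iw, IsClosedImmersion.lift_fac]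
      exact hm
  let q : Z.1.subscheme ⟶ H.left := q₀ ≫ PicF.XTproj f H
  let z : Z.1.subscheme ⟶ X := q₀ ≫ pullback.fst f H.hom
  have hz : q ≫ H.hom = z ≫ f := by
    show (q₀ ≫ pullback.snd f H.hom) ≫ H.hom = (q₀ ≫ pullback.fst f H.hom) ≫ f
    rw [Category.assoc, Category.assoc, pullback.condition]
  let t : Z.1.subscheme ⟶ T.left := pullback.lift q z hz
  let s : Z.1.subscheme ⟶ J.subscheme := sq.lift (𝟙 _) t (by
    rw [Category.id_comp]
    exact (pullback.lift_fst _ _ _).symm)
  have hs : s ≫ a = 𝟙 _ := sq.lift_fst _ _ _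
  have hst : s ≫ iw ≫ PicF.XTproj f T = t := sq.lift_snd _ _ _
  have : SmoothOfRelativeDimension 1 p.left :=
    (smoothOfRelativeDimension_isStableUnderBaseChange 1).of_isPullback
      (IsPullback.of_hasPullback H.hom f).flip inferInstance
  have : IsSeparated p.left := MorphismProperty.pullback_fst (P := @IsSeparated) _ _ ‹_›
  have : SmoothOfRelativeDimension 1 a :=
    (smoothOfRelativeDimension_isStableUnderBaseChange 1).of_isPullback sq.flip ‹_›
  have : IsSeparated a := MorphismProperty.of_isPullback (P := @IsSeparated) sq.flip ‹_›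
  have hker : (gr x).comap iw = s.ker := by
    have : IsClosedImmersion s := by
      have : IsClosedImmersion (s ≫ a) := by rw [hs]; infer_instance
      exact IsClosedImmersion.of_comp s a
    refine ideal_ext fun W w => ?_
    rw [← Scheme.IdealSheafData.le_map_iff_comap_le, Scheme.IdealSheafData.map_ker,
      secGraph_le_ker, ← exists_fac_iff_ker_le]
    constructor
    · intro h
      refine ⟨w ≫ a, sq.hom_ext ?_ ?_⟩
      · rw [Category.assoc, hs, Category.comp_id]
      · rw [Category.assoc, hst, Category.assoc]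
        apply pullback.hom_ext
        · have e1 : a ≫ q = (iw ≫ PicF.XTproj f T) ≫ p.left := sq.w
          simp only [Category.assoc, t, pullback.lift_fst]
          rw [e1, Category.assoc]
          rfl
        · have e2 : a ≫ z = iw ≫ pullback.fst f T.hom := by
            show a ≫ q₀ ≫ _ = _
            rw [reassoc_of% ha, XTmap_fst]
          simp only [Category.assoc, t, pullback.lift_snd]
          rw [e2]
          simpa [x] using h
    · rintro ⟨v, rfl⟩
      have e2 : a ≫ z = iw ≫ pullback.fst f T.hom := by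
        show a ≫ q₀ ≫ _ = _
        rw [reassoc_of% ha, XTmap_fst]
      simp only [Category.assoc]
      rw [← e2, reassoc_of% hs]
      show v ≫ z = v ≫ s ≫ iw ≫ PicF.XTproj f T ≫ pullback.snd H.hom f
      rw [reassoc_of% hst, pullback.lift_snd]
  rw [hker]
  exact (Groth.Agent.S15990.result a s hs).1

variable [IsSeparated A.hom]

/-- The inductive step. -/
theorem exists_norm_succ (φ : Over.mk f ⟶ A) {d : ℕ} {H : Over S} {Z : HilbD.Obj f d H}
    (hZ : HilbD.IsUniversal f d H Z) {ψ : H ⟶ A} (hψ : IsNorm φ Z ψ) {H' : Over S}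
    {Z' : HilbD.Obj f (d + 1) H'} (hZ' : HilbD.IsUniversal f (d + 1) H' Z') :
    ∃ ψ' : H' ⟶ A, IsNorm φ Z' ψ' := by
  let T : Over S := Over.mk (pullback.fst H.hom f ≫ H.hom)
  let p : T ⟶ H := Over.homMk (pullback.fst H.hom f) rfl
  let x : T ⟶ Over.mk f := Over.homMk (pullback.snd H.hom f) pullback.condition.symm
  let W₀ : HilbD.Obj f (d + 1) T := ⟨HilbD.pull f p Z.1 * gr x,
    isFinLocFreeOfDeg_mul (PicF.XTproj f T) (pullObj p Z).2
      (isFinLocFreeOfDeg_secGraph f T x.left (Over.w x))⟩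
  obtain ⟨m, hm, -⟩ := hZ' T W₀
  obtain ⟨⟨hm1, hm2, hm3⟩, hm4⟩ := addPoint_isFinLocFreeOfDeg f hZ hZ' m hm
  have : Surjective m.left := (Scheme.Hom.one_le_finrank_iff_surjective m.left).1 fun y => by
    rw [hm4 y]; exact Nat.le_add_left 1 d
  let v : T ⟶ A := (p ≫ ψ) * (x ≫ φ)
  have hv : ∀ {R : Over S} (a : R ⟶ T), a ≫ v = (a ≫ p ≫ ψ) * ((a ≫ x) ≫ φ) := fun a => by
    rw [MonObj.comp_mul, Category.assoc]
  have hpullW : ∀ {R : Over S} (a : R ⟶ T),
      HilbD.pull f a W₀.1 = HilbD.pull f (a ≫ p) Z.1 * gr (a ≫ x) := fun a => by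
    show HilbD.pull f a (_ * _) = _
    rw [pull_mul, pull_gr, pull_pull]
  -- the universal pair of points with the same sum
  let iw := W₀.1.subschemeι
  let R : Over S := Over.mk ((iw ≫ PicF.XTproj f T) ≫ T.hom)
  let a₀ : R ⟶ T := Over.homMk (iw ≫ PicF.XTproj f T) rfl
  let y : R ⟶ Over.mk f := Over.homMk (iw ≫ pullback.fst f T.hom) (by
    show (iw ≫ pullback.fst f T.hom) ≫ f = (iw ≫ pullback.snd f T.hom) ≫ T.hom
    rw [Category.assoc, Category.assoc, pullback.condition])
  have hgy : graph f R y.left (Over.w y) ≫ PicF.XTmap f a₀ = iw := by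
    apply pullback.hom_ext
    · simp [y]
    · simp [a₀]
  have hley : (pullObj a₀ W₀).1 ≤ gr y := by
    show HilbD.pull f a₀ W₀.1 ≤ (graph f R y.left (Over.w y)).ker
    rw [pull_le_ker, hgy, Scheme.IdealSheafData.ker_subschemeι]
  obtain ⟨I, hI⟩ := exists_residual f (pullObj a₀ W₀) y.left (Over.w y) hley
  obtain ⟨h, hh, -⟩ := hZ R I
  let b₀ : R ⟶ T := Over.homMk (pullback.lift h.left y.left ((Over.w h).trans (Over.w y).symm)) (by
    show pullback.lift _ _ _ ≫ pullback.fst H.hom f ≫ H.hom = R.hom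
    rw [pullback.lift_fst_assoc, Over.w h])
  have hb₀p : b₀ ≫ p = h := Over.OverMorphism.ext (pullback.lift_fst _ _ _)
  have hb₀x : b₀ ≫ x = y := Over.OverMorphism.ext (pullback.lift_snd _ _ _)
  have hW : HilbD.pull f a₀ W₀.1 = gr y * HilbD.pull f h Z.1 := by
    rw [hh]
    exact hI
  have hdiv : ∀ {U : Over S} (c : U ⟶ Over.mk f),
      Mor2.IsFinLocFreeOfDeg 1 ((gr c).subschemeι ≫ PicF.XTproj f U) :=
    fun c => isFinLocFreeOfDeg_secGraph f _ c.left (Over.w c)
  -- points of the pair with given value factor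
  have hcover : ∀ {R' : Over S} (a b : R' ⟶ T), a ≫ m = b ≫ m →
      ∃ l : R' ⟶ R, l ≫ a₀ = a ∧ l ≫ b₀ = b := by
    intro R' a b hab
    have hWb : HilbD.pull f a W₀.1 = HilbD.pull f (b ≫ p) Z.1 * gr (b ≫ x) := by
      rw [← hpullW b, ← hm, pull_pull, pull_pull, hab]
    have hle : W₀.1 ≤ (graph f R' (b ≫ x).left (Over.w (b ≫ x)) ≫ PicF.XTmap f a).ker := by
      rw [← pull_le_ker, hWb]
      exact mul_le_right' _ _
    obtain ⟨l₀, hl₀⟩ := (le_ker_iff _ _).1 hle
    have hl1 : l₀ ≫ a₀.left = a.left := by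
      show l₀ ≫ iw ≫ pullback.snd f T.hom = a.left
      rw [reassoc_of% hl₀]
      simp
    let l : R' ⟶ R := Over.homMk l₀ (by
      show l₀ ≫ a₀.left ≫ T.hom = R'.hom
      rw [reassoc_of% hl1, Over.w a])
    have hla : l ≫ a₀ = a := Over.OverMorphism.ext hl1
    have hly : l ≫ y = b ≫ x := by
      refine Over.OverMorphism.ext ?_
      show l₀ ≫ iw ≫ pullback.fst f T.hom = (b ≫ x).left
      rw [reassoc_of% hl₀]
      simp
    refine ⟨l, hla, Over.OverMorphism.ext (pullback.hom_ext ?_ ?_)⟩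
    · have h1 : l ≫ h = b ≫ p := by
        refine eq_of_pull_eq hZ _ _ (cancel (PicF.XTproj f R') (hdiv (b ≫ x)) ?_)
        rw [← pull_pull f l h, ← hly, ← pull_gr, ← pull_mul, ← hW, pull_pull, hla, hWb, pull_gr,
          hly, mul_comm]
      rw [← hb₀p, ← Category.assoc] at h1
      exact congrArg (fun z : R' ⟶ H => z.left) h1
    · have h1 := hly
      rw [← hb₀x, ← Category.assoc] at h1
      exact congrArg (fun z : R' ⟶ Over.mk f => z.left) h1
  have hR : a₀ ≫ v = b₀ ≫ v := by
    apply Over.OverMorphism.ext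
    have hker : iw.ker = HilbD.pull f p Z.1 * gr x := Scheme.IdealSheafData.ker_subschemeι _
    refine eq_of_inf_le (s := A.hom) iw ((Over.w (a₀ ≫ v)).trans (Over.w (b₀ ≫ v)).symm)
      (I := gr x) (J := HilbD.pull f p Z.1) ?_ (fun {U} u hu => ?_) (hker.trans_le (mul_le_right' _ _))
      (fun {U} u hu => ?_) (hker.trans_le (mul_le_left' _ _))
    · rw [hker, mul_comm]
      exact inf_le_mul (isEffCartierIdeal_of_finLocFree (PicF.XTproj f T) (hdiv x).1)
        (isEffCartierIdeal_comap_graph Z)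
    · -- where the new point is the given one
      let R' : Over S := Over.mk (u ≫ R.hom)
      let uo : R' ⟶ R := Over.homMk u rfl
      have hy : uo ≫ y = (uo ≫ a₀) ≫ x := by
        refine Over.OverMorphism.ext ?_
        have := (secGraph_le_ker f T x.left (Over.w x) (u ≫ iw)).1 hu
        simpa [uo, y, a₀] using this
      have hh' : uo ≫ h = (uo ≫ a₀) ≫ p := by
        refine eq_of_pull_eq hZ _ _ (cancel (PicF.XTproj f R') (hdiv ((uo ≫ a₀) ≫ x)) ?_)
        rw [← pull_pull f uo h, ← hy, ← pull_gr, ← pull_mul, ← hW, pull_pull, hpullW, pull_gr, hy,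
          mul_comm]
      have key : uo ≫ a₀ = uo ≫ b₀ := by
        refine Over.OverMorphism.ext (pullback.hom_ext ?_ ?_)
        · rw [← hb₀p, ← Category.assoc] at hh'
          exact congrArg (fun z : R' ⟶ H => z.left) hh'.symm
        · rw [← hb₀x, ← Category.assoc] at hy
          exact congrArg (fun z : R' ⟶ Over.mk f => z.left) hy.symm
      exact congrArg (fun z : R' ⟶ A => z.left)
        (show uo ≫ a₀ ≫ v = uo ≫ b₀ ≫ v by rw [← Category.assoc, key, Category.assoc])
    · -- where the new point lies in the family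
      let R' : Over S := Over.mk (u ≫ R.hom)
      let uo : R' ⟶ R := Over.homMk u rfl
      let a := uo ≫ a₀
      let y' := uo ≫ y
      refine congrArg (fun z : R' ⟶ A => z.left)
        (show uo ≫ a₀ ≫ v = uo ≫ b₀ ≫ v from ?_)
      have hle : HilbD.pull f (a ≫ p) Z.1 ≤ gr y' := by
        rw [← pull_pull]
        show _ ≤ (graph f R' y'.left (Over.w y')).ker
        rw [pull_le_ker]
        refine hu.trans (le_of_eq (congrArg Scheme.Hom.ker ?_))
        apply pullback.hom_ext
        · simp [y', y, uo]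
        · simp [a, a₀, uo]
      cases d with
      | zero =>
        have : IsEmpty U := ⟨fun w => by
          have htop := eq_top_of_deg_zero _ (pullObj (a ≫ p) Z).2
          have h1 : gr y' = ⊤ := top_le_iff.1 (htop.ge.trans hle)
          have hsub : IsEmpty (gr y').subscheme := by
            rw [h1]
            exact ⟨fun z => by
              have hz := (Set.ext_iff.1 (⊤ : (PicF.XT f R').IdealSheafData).range_subschemeι
                ((⊤ : (PicF.XT f R').IdealSheafData).subschemeι z)).1 ⟨z, rfl⟩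
              simp at hz⟩
          exact hsub.false ((graph f R' y'.left (Over.w y')).toImage w)⟩
        have : IsEmpty R'.left := ‹IsEmpty U›
        exact Over.OverMorphism.ext (isInitialOfIsEmpty.hom_ext _ _)
      | succ e =>
        obtain ⟨K, hK⟩ := exists_residual f (pullObj (a ≫ p) Z) y'.left (Over.w y') hle
        obtain ⟨R'', g, hg1, hg2, hg3, z, hz, hsplit⟩ := exists_split f e R' K
        let zs : Fin e → (R'' ⟶ Over.mk f) := fun i => Over.homMk (z i) (hz i)
        refine epi_of_cover g ?_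
        have hA : HilbD.pull f (g ≫ a ≫ p) Z.1 = gr (g ≫ y') * ∏ i, gr (zs i) := by
          rw [← pull_pull f g (a ≫ p), show HilbD.pull f (a ≫ p) Z.1 = _ from hK, pull_mul, hsplit]
          congr 1
          exact pull_gr g y'
        have hB : HilbD.pull f (g ≫ uo ≫ h) Z.1 = gr (g ≫ a ≫ x) * ∏ i, gr (zs i) := by
          refine cancel (PicF.XTproj f R'') (hdiv (g ≫ y')) ?_
          rw [show g ≫ uo ≫ h = (g ≫ uo) ≫ h from (Category.assoc _ _ _).symm, ← pull_pull f (g ≫ uo) h,
            show g ≫ y' = (g ≫ uo) ≫ y from (Category.assoc _ _ _).symm, ← pull_gr, ← pull_mul,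
            ← hW, pull_pull, hpullW]
          simp only [Category.assoc]
          rw [show g ≫ uo ≫ a₀ ≫ p = g ≫ a ≫ p by simp [a], hA, pull_gr]
          simp only [a, y', Category.assoc]
          ac_rfl
        have h1 := hψ R'' (g ≫ a ≫ p) (Fin.cons (g ≫ y') zs)
          (by rw [hA, Fin.prod_univ_succ]; simp only [Fin.cons_zero, Fin.cons_succ])
        have h2 := hψ R'' (g ≫ uo ≫ h) (Fin.cons (g ≫ a ≫ x) zs)
          (by rw [hB, Fin.prod_univ_succ]; simp only [Fin.cons_zero, Fin.cons_succ])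
        rw [Fin.prod_univ_succ] at h1 h2
        simp only [Fin.cons_zero, Fin.cons_succ, Category.assoc] at h1 h2
        rw [← Category.assoc uo a₀, ← Category.assoc uo b₀, hv, hv, MonObj.comp_mul, MonObj.comp_mul]
        simp only [Category.assoc]
        rw [show g ≫ uo ≫ b₀ ≫ p ≫ ψ = g ≫ uo ≫ h ≫ ψ by rw [← hb₀p, Category.assoc],
          show g ≫ uo ≫ b₀ ≫ x ≫ φ = g ≫ uo ≫ y ≫ φ by rw [← hb₀x, Category.assoc], h2,
          show g ≫ uo ≫ a₀ ≫ p ≫ ψ = _ by simpa [a] using h1]
        simp only [a, y', Category.assoc]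
        ac_rfl
  -- descent
  have hdesc : ∀ {Z₁ : Scheme.{u}} (g₁ g₂ : Z₁ ⟶ T.left), g₁ ≫ m.left = g₂ ≫ m.left →
      g₁ ≫ v.left = g₂ ≫ v.left := by
    intro Z₁ g₁ g₂ hg
    let R' : Over S := Over.mk (g₁ ≫ T.hom)
    let a : R' ⟶ T := Over.homMk g₁ rfl
    let b : R' ⟶ T := Over.homMk g₂ (by
      show g₂ ≫ T.hom = g₁ ≫ T.hom
      rw [← Over.w m, ← reassoc_of% hg])
    obtain ⟨l, hla, hlb⟩ := hcover a b (Over.OverMorphism.ext hg)
    exact congrArg (fun z : R' ⟶ A => z.left)
      (show a ≫ v = b ≫ v by rw [← hla, ← hlb, Category.assoc, Category.assoc, hR])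
  let ψ₀ := EffectiveEpi.desc m.left v.left hdesc
  have hψ₀ : m.left ≫ ψ₀ = v.left := EffectiveEpi.fac m.left v.left hdesc
  let ψ' : H' ⟶ A := Over.homMk ψ₀ ((cancel_epi m.left).1 (by
    rw [reassoc_of% hψ₀, Over.w v, Over.w m]))
  have hmψ : m ≫ ψ' = v := Over.OverMorphism.ext hψ₀
  refine ⟨ψ', fun U g xs hg => ?_⟩
  obtain ⟨c, hc, -⟩ := hZ U ⟨∏ i : Fin d, gr (xs i.succ), isFinLocFreeOfDeg_prod _⟩
  let cT : U ⟶ T := Over.homMk (pullback.lift c.left (xs 0).left
    ((Over.w c).trans (Over.w (xs 0)).symm)) (by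
      show pullback.lift _ _ _ ≫ pullback.fst H.hom f ≫ H.hom = U.hom
      rw [pullback.lift_fst_assoc, Over.w c])
  have hcp : cT ≫ p = c := Over.OverMorphism.ext (pullback.lift_fst _ _ _)
  have hcx : cT ≫ x = xs 0 := Over.OverMorphism.ext (pullback.lift_snd _ _ _)
  have hgm : g = cT ≫ m := eq_of_pull_eq hZ' _ _ (by
    rw [← pull_pull f cT m, hm, hpullW, hcp, hcx, hg, Fin.prod_univ_succ, hc, mul_comm])
  rw [hgm, Category.assoc, hmψ, hv, hcx, ← Category.assoc, hcp,
    hψ U c (fun i => xs i.succ) hc, Fin.prod_univ_succ, mul_comm]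

/-- The norm of `φ` on the scheme of divisors of degree `d`. -/
theorem exists_norm (φ : Over.mk f ⟶ A) (hrep : ∀ e, HilbD.Representable f e) :
    ∀ (d : ℕ) (H : Over S) (Z : HilbD.Obj f d H), HilbD.IsUniversal f d H Z →
      ∃ ψ : H ⟶ A, IsNorm φ Z ψ
  | 0, H, Z, _ => ⟨1, fun T g x _ => by rw [MonObj.comp_one, Finset.univ_eq_empty, Finset.prod_empty]⟩
  | d + 1, H', Z', hZ' => by
    obtain ⟨H, Z, hZ⟩ := hrep d
    obtain ⟨ψ, hψ⟩ := exists_norm φ hrep d H Z hZ
    exact exists_norm_succ φ hZ hψ hZ'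

end Groth.DivNorm
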